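import Groth.Agent.Lib.SerreVanish.Main
import Groth.Agent.Lib.Ample.VanishCriterion
import Groth.Agent.Lib.Ample.Frame
import Groth.Agent.Lib.HomSh.Coherent

/-!
# Serre vanishing for ample invertible modules
-/

set_option linter.style.haveILetI false

universe u

open CategoryTheory CategoryTheory.Limits AlgebraicGeometry TopologicalSpace

noncomputable section

namespace GrothLib.SerreVanish

variable {X : Scheme.{u}} (A : Type u) [CommRing A] [IsNoetherianRing A]
  [X.Over (Spec (CommRingCat.of A))] [IsProper (X ↘ Spec (CommRingCat.of A))]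

include A in
/-- Serre vanishing for the twists of a coherent module by powers of an ample invertible module. -/
theorem exists_forall_subsingleton {L : X.Modules} (hA : CohB1.IsAmple L) {M : X.Modules} (hM : Coh.IsCoh M) :
    ∃ n₀ : ℕ, ∀ n, n₀ ≤ n → ∀ i, 1 ≤ i →
      Subsingleton (Coh.HH X (CohB1.tensorMod M (CohB1.tensorPow L n)) i) := by
  obtain ⟨c, ⟨e⟩⟩ := Ample.exists_cocycle hA.1
  obtain ⟨n₀, hn₀⟩ := evAcyclic c A ((c.isAmple_iff e).1 hA).2 hM
  refine ⟨n₀, fun n hn i hi => ?_⟩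
  obtain ⟨d⟩ := c.nonempty_tensorPow_iso e n
  obtain ⟨q⟩ := c.nonempty_tensor_modTwist M n
  let j : CohB1.tensorMod M (CohB1.tensorPow L n) ≅ c.modTwist M n :=
    ((DCoh.tensorBi (X := X)).obj M).mapIso d ≪≫ q
  haveI := hn₀ n hn i hi
  exact (Euler.hhEquiv (A := A) j i).toEquiv.subsingleton

include A in
/-- The ideal module of a closed set is coherent. -/
theorem isCoh_vMod (T : Closeds X) : Coh.IsCoh (Ample.vMod T) := by
  haveI := isNoetherian_of_proper (X := X) A
  haveI : IsLocallyNoetherian (Scheme.IdealSheafData.vanishingIdeal T).subscheme :=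
    LocallyOfFiniteType.isLocallyNoetherian (Scheme.IdealSheafData.vanishingIdeal T).subschemeι
  haveI := Cohom.isQuasicoherent_structureModule (Scheme.IdealSheafData.vanishingIdeal T).subscheme
  exact QCoh.isCoh_kernel _ (HomSh.isCoh_structureModule X)
    ⟨QCoh.isQuasicoherent_pushforward _ _,
      QCoh.isFiniteType_pushforward _ _ (HomSh.isCoh_structureModule _).2⟩

include A in
/-- An invertible module with Serre vanishing is ample. -/
theorem isAmple_of_forall_vanish {L : X.Modules} (hL : PicF.IsInvertible L)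
    (h : ∀ M : X.Modules, Coh.IsCoh M → ∃ n₀ : ℕ, ∀ n, n₀ ≤ n →
      Subsingleton (Coh.HH X (CohB1.tensorMod M (CohB1.tensorPow L n)) 1)) : CohB1.IsAmple L := by
  haveI := isNoetherian_of_proper (X := X) A
  obtain ⟨c, ⟨e⟩⟩ := Ample.exists_cocycle hL
  rw [c.isAmple_iff e]
  refine ⟨inferInstance, c.isAmp_of_subsingleton_H1 fun T => ?_⟩
  obtain ⟨n₀, hn₀⟩ := h _ (isCoh_vMod A T)
  refine ⟨n₀, ?_⟩
  obtain ⟨d⟩ := c.nonempty_tensorPow_iso e (n₀ + 1)
  obtain ⟨q⟩ := c.nonempty_tensor_modTwist (Ample.vMod T) (n₀ + 1)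
  let j : CohB1.tensorMod (Ample.vMod T) (CohB1.tensorPow L (n₀ + 1)) ≅ c.modTwist (Ample.vMod T) (n₀ + 1) :=
    ((DCoh.tensorBi (X := X)).obj (Ample.vMod T)).mapIso d ≪≫ q
  haveI := hn₀ (n₀ + 1) (Nat.le_succ _)
  exact (Euler.hhEquiv (A := A) j 1).toEquiv.symm.subsingleton

end GrothLib.SerreVanish
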