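import Groth.Agent.Lib.SerreVanish.Kill
import Groth.Agent.Lib.Euler.CurveVanish
import Groth.Agent.Lib.InvTriv26.Basic
import Groth.Agent.Lib.ProjCoh.Finite
import Groth.Agent.Lib.Cohom.HomologySections

/-!
# Serre vanishing for an ample cocycle on a proper scheme over a Noetherian ring
-/

set_option linter.style.haveILetI false

universe u

open CategoryTheory CategoryTheory.Limits AlgebraicGeometry TopologicalSpace Opposite

noncomputable section

namespace GrothLib.SerreVanish

open GrothLib.InvExt (mres)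
open GrothLib.Ample (Cocycle res)
open GrothLib.QCoh (stalkLin)

variable {X : Scheme.{u}} (c : Cocycle X)

section Twist

variable (M : X.Modules) {p q : ℕ} (n : ℕ)

/-- Twisting twice is twisting once. -/
def twistTwist (e : n + p = q) : c.modTwist (c.modTwist M p) n ⟶ c.modTwist M q :=
  ⟨{
    app := fun V => ModuleCat.ofHom
      (X := ((c.modTwist (c.modTwist M p) n).val.obj V : Type u))
      (Y := ((c.modTwist M q).val.obj V : Type u))
      { toFun := fun (b : c.msect (c.modTwist M p) n V.unop) =>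
          (⟨fun i => mres M (le_inf le_rfl inf_le_right) ((show c.msect M p (V.unop ⊓ c.D i) from b.1 i).1 i),
            fun i j W hi hj => by
              have hb := congrArg (fun t : c.msect M p W => t.1 i) (c.msect_spec b i j hi hj)
              change mres M (inf_le_inf_right (c.D i) hi) ((show c.msect M p (V.unop ⊓ c.D i) from b.1 i).1 i) =
                res (inf_le_left : W ⊓ c.D i ≤ W) _ •
                  mres M (inf_le_inf_right (c.D i) hj) ((show c.msect M p (V.unop ⊓ c.D j) from b.1 j).1 i) at hb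
              have hb' := congrArg (mres M (le_inf le_rfl (hi.trans inf_le_right) : W ≤ W ⊓ c.D i)) hb
              have hd := c.msect_spec (show c.msect M p (V.unop ⊓ c.D j) from b.1 j) i j (W := W)
                (le_inf hj (hi.trans inf_le_right)) (le_inf hj (hj.trans inf_le_right))
              simp only [InvExt.mres_mres, Ample.mres_smul', Ample.res_res] at hb' ⊢
              rw [hb', hd, smul_smul, ← e, pow_add]
              simp only [map_pow, Cocycle.res_G]⟩ : c.msect M q V.unop)
        map_add' := fun (b b' : c.msect (c.modTwist M p) n V.unop) => c.msect_ext fun i => map_add (M.presheaf.map _).hom _ _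
        map_smul' := fun (r : Γ(X, V.unop)) (b : c.msect (c.modTwist M p) n V.unop) => c.msect_ext fun i => by
          refine (Ample.mres_smul' M _ _ _).trans ?_
          simp only [Ample.res_res]
          rfl }
    naturality := fun {V W} f => by
      ext (b : c.msect (c.modTwist M p) n V.unop)
      refine c.msect_ext fun i => ?_
      exact (InvExt.mres_mres M _ _ _).trans (InvExt.mres_mres M _ _ _).symm }⟩

theorem twistTwist_app (e : n + p = q) {V : X.Opens} (b : c.msect (c.modTwist M p) n V) (i : c.ι) :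
    (show c.msect M q V from (twistTwist c M n e).app V b).1 i =
      mres M (le_inf le_rfl inf_le_right) ((show c.msect M p (V ⊓ c.D i) from b.1 i).1 i) := rfl

theorem twistTwist_app_bijective (e : n + p = q) (V : X.Opens) :
    Function.Bijective ((twistTwist c M n e).app V) := by
  refine ⟨fun (b : c.msect (c.modTwist M p) n V) b' h => c.msect_ext fun i => ?_,
    fun (t : c.msect M q V) => ?_⟩
  · refine c.msect_ext_of_le (V := V ⊓ c.D i) (i := i) inf_le_right ?_
    have := congrArg (fun s : c.msect M q V => mres M (inf_le_left : (V ⊓ c.D i) ⊓ c.D i ≤ V ⊓ c.D i) (s.1 i)) h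
    simp only [twistTwist_app, InvExt.mres_mres, InvExt.mres_self] at this
    exact this
  · refine ⟨⟨fun i => c.mbase p i inf_le_right (t.1 i), fun i j W hi hj => ?_⟩, c.msect_ext fun i => ?_⟩
    · subst e
      refine c.msect_ext_of_le (V := W) (i := i) (hi.trans inf_le_right) ?_
      change mres M (inf_le_inf_right (c.D i) hi) ((c.mbase p i inf_le_right (t.1 i)).1 i) =
        res (inf_le_left : W ⊓ c.D i ≤ W) _ •
          mres M (inf_le_inf_right (c.D i) hj) ((c.mbase p j inf_le_right (t.1 j)).1 i)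
      have hd := c.msect_spec (c.mbase p j inf_le_right (t.1 j) : c.msect M p (V ⊓ c.D j)) i j (W := W ⊓ c.D i)
        (le_inf (inf_le_left.trans hj) inf_le_right)
        (le_inf (inf_le_left.trans hj) (inf_le_left.trans (hj.trans inf_le_right)))
      have ht := c.msect_spec t i j (W := W ⊓ c.D i) (inf_le_left.trans hi) (inf_le_left.trans hj)
      rw [Cocycle.mbase_self, InvExt.mres_mres, ht, hd, Cocycle.mbase_self, InvExt.mres_mres, pow_add,
        smul_smul]
      simp only [map_pow, Ample.res_res, Cocycle.res_G]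
    · rw [twistTwist_app]
      change mres M _ ((c.mbase p i inf_le_right (t.1 i)).1 i) = _
      rw [Cocycle.mbase_self, InvExt.mres_mres, InvExt.mres_self]

instance isIso_twistTwist (e : n + p = q) : IsIso (twistTwist c M n e) :=
  InvTriv26.isIso_of_app_bijective _ (twistTwist_app_bijective c M n e)

theorem mtwistMap_comp {M N P : X.Modules} (φ : M ⟶ N) (ψ : N ⟶ P) (n : ℕ) :
    c.mtwistMap (φ ≫ ψ) n = c.mtwistMap φ n ≫ c.mtwistMap ψ n :=
  Scheme.Modules.hom_ext _ _ fun V => by
    ext (b : c.msect M n V)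
    rfl

theorem mtwistMap_zero {M N : X.Modules} (n : ℕ) : c.mtwistMap (0 : M ⟶ N) n = 0 :=
  Scheme.Modules.hom_ext _ _ fun V => by
    ext (b : c.msect M n V)
    exact c.msect_ext fun i => rfl

/-- The twist of a short complex. -/
abbrev twistSeq (S : ShortComplex X.Modules) : ShortComplex X.Modules :=
  ShortComplex.mk (c.mtwistMap S.f n) (c.mtwistMap S.g n)
    (by rw [← mtwistMap_comp, S.zero, mtwistMap_zero])

theorem twistSeq_shortExact {S : ShortComplex X.Modules} (hS : S.ShortExact) :
    (twistSeq c n S).ShortExact := by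
  have hf : ∀ V, Function.Injective (S.f.app V) := fun V =>
    haveI := hS.mono_f
    Cohom.app_injective_of_mono S.f V
  have hex : ∀ (V : X.Opens) (b : Γ(S.X₂, V)), S.g.app V b = 0 → ∃ a, S.f.app V a = b := fun V b hb =>
    Cohom.sections_exact (QCoh.toAbFun_map_shortExact S hS) V b hb
  haveI hmono : Mono (c.mtwistMap S.f n) :=
    QCoh.mono_of_app_injective _ (c.mtwistMap_app_injective _ _ hf)
  haveI hepi : Epi (c.mtwistMap S.g n) := by
    refine ⟨fun {Z} u v huv => Scheme.Modules.hom_ext _ _ fun V => ?_⟩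
    ext (y : c.msect S.X₃ n V)
    haveI := hS.epi_g
    choose l hl using c.exists_mem
    choose W hW hxW t ht using fun x : V =>
      Cocyc.exists_local_preimage S.g (V := V ⊓ c.D (l x.1)) (y.1 (l x.1)) x.1 ⟨x.2, hl x.1⟩
    refine Ample.meq_of_cover Z W (fun x => (hW x).trans inf_le_left)
      (fun x hx => Opens.mem_iSup.2 ⟨⟨x, hx⟩, hxW ⟨x, hx⟩⟩) fun x => ?_
    rw [← Ample.app_mres, ← Ample.app_mres]
    let b : c.msect S.X₂ n (W x) := c.mbase n (l x.1) ((hW x).trans inf_le_right) (t x)
    have hb : mres (c.modTwist S.X₃ n) ((hW x).trans inf_le_left) y = (c.mtwistMap S.g n).app (W x) b := by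
      refine c.msect_ext_of_le ((hW x).trans inf_le_right) ?_
      change mres S.X₃ _ (y.1 (l x.1)) = S.g.app _ (b.1 (l x.1))
      rw [Cocycle.mbase_self, Ample.app_mres, ht x]
      exact (InvExt.mres_mres S.X₃ (hW x) (inf_le_left : W x ⊓ c.D (l x.1) ≤ W x) (y.1 (l x.1))).symm
    rw [hb]
    exact congrArg (fun φ : c.modTwist S.X₂ n ⟶ Z => φ.app (W x) b) huv
  refine ShortComplex.ShortExact.mk' ?_ hmono hepi
  let K := kernel (c.mtwistMap S.g n)
  let φ : c.modTwist S.X₁ n ⟶ K := kernel.lift _ (c.mtwistMap S.f n) (twistSeq c n S).zero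
  have hφ : φ ≫ kernel.ι _ = c.mtwistMap S.f n := kernel.lift_ι _ _ _
  haveI : IsIso φ := InvTriv26.isIso_of_app_bijective _ fun V => by
    refine ⟨fun a b hab => ?_, fun w => ?_⟩
    · refine c.mtwistMap_app_injective _ _ hf V ?_
      rw [← hφ]
      exact congrArg ((kernel.ι (c.mtwistMap S.g n)).app V) hab
    · let z : c.msect S.X₂ n V := (kernel.ι (c.mtwistMap S.g n)).app V w
      have hz : ∀ i, S.g.app (V ⊓ c.D i) (z.1 i) = 0 := fun i =>
        congrArg (fun s : c.msect S.X₃ n V => s.1 i)
          (congrArg (fun ψ : K ⟶ c.modTwist S.X₃ n => ψ.app V w) (kernel.condition (c.mtwistMap S.g n)))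
      choose a ha using fun i => hex _ (z.1 i) (hz i)
      refine ⟨(⟨a, fun i j U hi hj => hf U ?_⟩ : c.msect S.X₁ n V), ?_⟩
      · rw [Ample.app_mres, Ample.app_smul, Ample.app_mres, ha, ha]
        exact c.msect_spec z i j hi hj
      · refine Cohom.app_injective_of_mono (kernel.ι (c.mtwistMap S.g n)) V ?_
        refine (congrArg (fun ψ : c.modTwist S.X₁ n ⟶ c.modTwist S.X₂ n => ψ.app V _) hφ).trans ?_
        exact c.msect_ext fun i => ha i
  exact ShortComplex.exact_of_f_is_kernel _ (IsLimit.ofIsoLimit (kernelIsKernel (c.mtwistMap S.g n))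
    (Fork.ext (asIso φ) hφ).symm)

theorem mtwistMap_mraise {k : ℕ} (a : c.sect k ⊤) (N : ℕ) :
    c.mtwistMap (c.mraiseHom M a 0 N) n ≫ twistTwist c M n (q := n + k * N) (by omega) =
      twistTwist c M n (q := n) (by omega) ≫ c.mraiseHom M a n N :=
  Scheme.Modules.hom_ext _ _ fun V => by
    ext (b : c.msect (c.modTwist M 0) n V)
    refine c.msect_ext fun i => ?_
    refine (twistTwist_app c M n (p := 0 + k * N) (q := n + k * N) (by omega) _ i).trans ?_
    change mres M (le_inf le_rfl inf_le_right)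
        (res (inf_le_inf_right (c.D i) le_top) (a.1 i) ^ N • (show c.msect M 0 (V ⊓ c.D i) from b.1 i).1 i) =
      res (inf_le_inf_right (c.D i) le_top) (a.1 i) ^ N •
        mres M (le_inf le_rfl inf_le_right) ((show c.msect M 0 (V ⊓ c.D i) from b.1 i).1 i)
    rw [Ample.mres_smul', map_pow, Ample.res_res]

theorem support_modTwist_subset : CohB1.support (c.modTwist M n) ⊆ CohB1.support M := by
  obtain ⟨e⟩ := c.nonempty_tensor_modTwist M n
  exact (QCoh.support_eq_of_iso (show (Euler.tF (c.twist n)).obj M ≅ c.modTwist M n from e)).symm.subset.trans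
    (Euler.support_tF_subset (Euler.isFinLocFreeOfRank_one' (c.isInvertible_twist n)))

end Twist

variable (A : Type u) [CommRing A] [X.Over (Spec (CommRingCat.of A))]

theorem hhMap_id {M : X.Modules} (i : ℕ) (x : Coh.HH X M i) : Cohom.hhMap A (𝟙 M) i x = x := by
  rw [Cohom.hhMap_apply, CategoryTheory.Functor.map_id, Cohom.H_map_eq_comp, Abelian.Ext.comp_mk₀_id]

theorem surjective_hhMap_of_isIso {M N : X.Modules} (φ : M ⟶ N) [IsIso φ] (i : ℕ) :
    Function.Surjective (Cohom.hhMap A φ i) := fun y => ⟨Cohom.hhMap A (inv φ) i y, by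
  rw [← Euler.hhMap_comp, IsIso.inv_hom_id, hhMap_id]⟩

variable [IsNoetherianRing A] [IsProper (X ↘ Spec (CommRingCat.of A))]

/-- The twists of `M` lose their higher cohomology. -/
def EvAcyclic (M : X.Modules) : Prop :=
  ∃ n₀, ∀ n, n₀ ≤ n → ∀ i, 1 ≤ i → Subsingleton (Coh.HH X (c.modTwist M n) i)

include A in
theorem isNoetherian_of_proper : IsNoetherian X := by
  haveI : IsLocallyNoetherian X := LocallyOfFiniteType.isLocallyNoetherian (X ↘ Spec (CommRingCat.of A))
  haveI : CompactSpace X := QuasiCompact.compactSpace_of_compactSpace (X ↘ Spec (CommRingCat.of A))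
  exact {}

include A in
theorem isSeparated_of_proper : X.IsSeparated := by
  constructor
  rw [← terminal.comp_from (X ↘ Spec (CommRingCat.of A))]
  infer_instance

include A in
/-- Serre vanishing. -/
theorem evAcyclic (hc : c.IsAmp) {M : X.Modules} (hM : Coh.IsCoh M) : EvAcyclic c M := by
  classical
  haveI := isNoetherian_of_proper (X := X) A
  haveI := isSeparated_of_proper (X := X) A
  suffices ∀ (T : Closeds X) (M : X.Modules), Coh.IsCoh M → CohB1.support M = T → EvAcyclic c M from
    this ⟨_, QCoh.isClosed_support_of_isCoh hM⟩ M hM rfl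
  intro T
  induction T using WellFounded.induction (r := ((· < ·) : Closeds X → Closeds X → Prop)) wellFounded_lt with
  | _ T ih =>
  intro M hM hMT
  haveI := hM.1
  rcases (T : Set X).eq_empty_or_nonempty with hT | ⟨x, hx⟩
  · refine ⟨0, fun n _ i hi => ?_⟩
    have h : CohB1.support (c.modTwist M n) ⊆ (∅ : Set X) :=
      (support_modTwist_subset c M n).trans (hMT.trans hT).subset
    haveI := c.isQuasicoherent_modTwist M n
    exact Euler.subsingleton_HH_of_finite_support _ (Set.finite_empty.subset h)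
      (fun y hy => (h hy).elim) i hi
  obtain ⟨m, a, hxa, haff⟩ := hc x
  let μ := c.mraiseHom M a 0 1
  have h0 := Euler.isCoh_modTwist c hM 0
  have h1 := Euler.isCoh_modTwist c hM (0 + (m + 1) * 1)
  have hbij : ∀ y ∈ c.locus a, Function.Bijective (stalkLin μ y) :=
    fun y hy => Euler.bijective_stalk_mraiseHom c a M 0 1 hy
  have hsmall : ∀ (P : X.Modules), Coh.IsCoh P → CohB1.support P ⊆ (T : Set X) →
      (∀ y ∈ c.locus a, y ∉ CohB1.support P) → EvAcyclic c P := fun P hP hPT hPa =>
    ih ⟨_, QCoh.isClosed_support_of_isCoh hP⟩ (lt_of_le_of_ne (fun y hy => hPT hy)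
      fun e => hPa x hxa ((SetLike.ext'_iff.1 e).symm.le hx)) P hP rfl
  have hK := QCoh.isCoh_kernel μ h0 h1
  have hQ := QCoh.isCoh_cokernel μ h0 h1
  obtain ⟨nK, hnK⟩ := hsmall (kernel μ) hK
    (((QCoh.support_subset_of_mono (kernel.ι μ)).trans (support_modTwist_subset c M 0)).trans hMT.subset)
    fun y hy => QCoh.notMem_support_kernel_of_injective μ (hbij y hy).1
  obtain ⟨nQ, hnQ⟩ := hsmall (cokernel μ) hQ
    (((QCoh.support_subset_of_epi (cokernel.π μ)).trans (support_modTwist_subset c M _)).trans hMT.subset)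
    fun y hy => QCoh.notMem_support_cokernel_of_surjective μ (hbij y hy).2
  let n₁ := max nK nQ
  have hstep : ∀ n, n₁ ≤ n → ∀ i, 1 ≤ i → Function.Surjective (Cohom.hhMap A (c.mraiseHom M a n 1) i) := by
    intro n hn i hi y
    have hsq := mtwistMap_mraise c M n a 1
    obtain ⟨y', rfl⟩ := surjective_hhMap_of_isIso A (twistTwist c M n (q := n + (m + 1) * 1) (p := 0 + (m + 1) * 1)
      (by omega)) i y
    have s₂ : Subsingleton (Coh.HH X (c.modTwist (cokernel μ) n) i) := hnQ n (le_trans (le_max_right _ _) hn) i hi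
    have s₁ : Subsingleton (Coh.HH X (c.modTwist (kernel μ) n) (i + 1)) :=
      hnK n (le_trans (le_max_left _ _) hn) (i + 1) (by omega)
    obtain ⟨z, hz⟩ := (Cohom.exact₂ (A := A) (twistSeq_shortExact c n (Euler.imageSeq_shortExact μ)) i y').1
      (@Subsingleton.elim _ s₂ _ _)
    obtain ⟨w, hw⟩ := (Cohom.exact₃ (A := A) (twistSeq_shortExact c n (Euler.kernelSeq_shortExact μ)) i z).1
      (@Subsingleton.elim _ s₁ _ _)
    refine ⟨Cohom.hhMap A (twistTwist c M n (q := n) (p := 0) (by omega)) i w, ?_⟩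
    rw [← Euler.hhMap_comp, ← hsq, Euler.hhMap_comp]
    congr 1
    rw [show c.mtwistMap (c.mraiseHom M a 0 1) n =
      c.mtwistMap (Abelian.factorThruImage μ) n ≫ c.mtwistMap (Abelian.image.ι μ) n by
        rw [← mtwistMap_comp, Abelian.image.fac], Euler.hhMap_comp]
    exact (congrArg _ hw).trans hz
  have hsurj : ∀ n, n₁ ≤ n → ∀ i, 1 ≤ i → ∀ N, Function.Surjective (Cohom.hhMap A (c.mraiseHom M a n N) i) := by
    intro n hn i hi N
    induction N with
    | zero =>
      refine fun y => ⟨y, ?_⟩
      have : c.mraiseHom M a n 0 = 𝟙 (c.modTwist M n) := Scheme.Modules.hom_ext _ _ fun V => by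
        ext (b : c.msect M n V)
        exact c.msect_ext fun i => by
          rw [show (c.mraiseHom M a n 0).app V b = (c.mraise a b 0 : c.msect M _ V) from rfl]
          change res _ (a.1 i) ^ 0 • b.1 i = b.1 i
          rw [pow_zero, one_smul]
      rw [this]
      exact hhMap_id A i y
    | succ N ihN =>
      rw [c.mraiseHom_eq_comp M a n N 1]
      intro y
      obtain ⟨y₁, rfl⟩ := surjective_hhMap_of_isIso A (eqToHom (show c.modTwist M (n + (m + 1) * N + (m + 1) * 1) = c.modTwist M (n + (m + 1) * (N + 1)) by rw [mul_add, add_assoc])) i y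
      obtain ⟨y₂, rfl⟩ := hstep (n + (m + 1) * N) (le_trans hn (Nat.le_add_right _ _)) i hi y₁
      obtain ⟨y₃, rfl⟩ := ihN y₂
      exact ⟨y₃, by rw [Euler.hhMap_comp, Euler.hhMap_comp]⟩
  obtain ⟨B, hB⟩ := Cohom.exists_vanishFrom_of_isCompact (X := X) (V := ⊤) isCompact_univ
  have hfin : ∀ r i, 1 ≤ i → ∃ N₀, ∀ N, N₀ ≤ N → Cohom.hhMap A (c.mraiseHom M a (n₁ + r) N) i = 0 := by
    intro r i hi
    haveI := ProjCoh.moduleFinite_HH A _ (Euler.isCoh_modTwist c hM (n₁ + r)) i
    obtain ⟨s, hs⟩ := Module.finite_def.1 this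
    choose N₀ hN₀ using fun g : s => exists_kill c M a (n₁ + r) A haff hi g.1
    refine ⟨Finset.univ.sup N₀, fun N hN => LinearMap.ext_on hs fun g hg => ?_⟩
    exact hN₀ ⟨g, hg⟩ N ((Finset.le_sup (Finset.mem_univ _)).trans hN)
  choose Nb hNb using hfin
  let Nmax := (Finset.range (m + 1)).sup fun r => (Finset.range B).sup fun i => if h : 1 ≤ i then Nb r i h else 0
  refine ⟨n₁ + (m + 1) * (Nmax + 1), fun n hn i hi => ?_⟩
  haveI := c.isQuasicoherent_modTwist M n
  by_cases hiB : B ≤ i
  · exact (hB _).subsingleton_HH hiB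
  obtain ⟨r, N, hr, hN, rfl⟩ : ∃ r N, r < m + 1 ∧ Nmax ≤ N ∧ n = n₁ + r + (m + 1) * N := by
    refine ⟨(n - n₁) % (m + 1), (n - n₁) / (m + 1), Nat.mod_lt _ (by omega), ?_, ?_⟩
    · exact (Nat.le_div_iff_mul_le (by omega)).2 (by nlinarith [Nat.sub_add_cancel (le_trans (Nat.le_add_right _ _) hn)])
    · rw [add_assoc, Nat.mod_add_div]
      omega
  refine subsingleton_of_forall_eq 0 fun y => ?_
  obtain ⟨y', rfl⟩ := hsurj (n₁ + r) (Nat.le_add_right _ _) i hi N y
  have h2 : Nb r i hi ≤ Nmax := by
    have := Finset.le_sup (f := fun i => if h : 1 ≤ i then Nb r i h else 0) (Finset.mem_range.2 (not_le.1 hiB))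
    rw [dif_pos hi] at this
    exact this.trans (Finset.le_sup (f := fun r => (Finset.range B).sup fun i => if h : 1 ≤ i then Nb r i h else 0)
      (Finset.mem_range.2 hr))
  rw [hNb r i hi N (h2.trans hN)]
  rfl

end GrothLib.SerreVanish
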