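import Groth.Agent.Lib.SerreVanish.LocColim
import Groth.Agent.Lib.Cohom.Exact
import Groth.Agent.Lib.Cohom.LinearLES
import Groth.Agent.Lib.Cohom.Vanishing
import Groth.Agent.Lib.Ample.ModTwistMap
import Groth.Agent.Lib.Ample.ModTwistQcoh

/-!
# A power of a section with affine locus kills every cohomology class of positive degree
-/

set_option linter.style.haveILetI false

universe u

open CategoryTheory CategoryTheory.Limits AlgebraicGeometry TopologicalSpace Opposite Abelian

noncomputable section

namespace GrothLib.SerreVanish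

open GrothLib.Cohom
open GrothLib.InvExt (mres)
open GrothLib.Ample (Cocycle res)

variable {X : Scheme.{u}} (c : Cocycle X) (M : X.Modules) {k : ℕ} (a : c.sect k ⊤) (n : ℕ)

/-- The transition map of the system of twists. -/
def trHom {N N' : ℕ} (h : N ≤ N') : c.modTwist M (n + k * N) ⟶ c.modTwist M (n + k * N') :=
  ⟨{
    app := fun V => ModuleCat.ofHom
      (X := ((c.modTwist M (n + k * N)).val.obj V : Type u))
      (Y := ((c.modTwist M (n + k * N')).val.obj V : Type u))
      { toFun := fun (b : c.msect M (n + k * N) V.unop) =>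
          c.msectCast (by rw [add_assoc, ← mul_add, Nat.add_sub_cancel' h]) (c.mraise a b (N' - N))
        map_add' := fun (b b' : c.msect M (n + k * N) V.unop) => c.msect_ext fun i => smul_add _ _ _
        map_smul' := fun (r : Γ(X, V.unop)) (b : c.msect M (n + k * N) V.unop) =>
          c.msect_ext fun i => smul_comm _ _ _ }
    naturality := fun {V W} f => by
      ext (b : c.msect M (n + k * N) V.unop)
      refine c.msect_ext fun i => ?_
      show (c.mraise a (c.msectRes (leOfHom f.unop) b) (N' - N)).1 i =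
        (c.msectRes (leOfHom f.unop) (c.mraise a b (N' - N))).1 i
      rw [c.msectRes_mraise] }⟩

theorem trHom_app {N N' : ℕ} (h : N ≤ N') {V : X.Opens} (b : c.msect M (n + k * N) V) (i : c.ι) :
    (show c.msect M (n + k * N') V from (trHom c M a n h).app V b).1 i =
      res (inf_le_inf_right (c.D i) (le_top : V ≤ ⊤)) (a.1 i) ^ (N' - N) • b.1 i := rfl

/-- The system of twists along a section. -/
def sys : ℕ ⥤ X.Modules where
  obj N := c.modTwist M (n + k * N)
  map h := trHom c M a n h.le
  map_id N := Scheme.Modules.hom_ext _ _ fun V => by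
    ext (b : c.msect M (n + k * N) V)
    refine c.msect_ext fun i => ?_
    rw [trHom_app, Nat.sub_self, pow_zero, one_smul]
    rfl
  map_comp {A B D} h h' := Scheme.Modules.hom_ext _ _ fun V => by
    ext (b : c.msect M (n + k * A) V)
    refine c.msect_ext fun i => ?_
    rw [trHom_app]
    change _ = (show c.msect M (n + k * D) V from (trHom c M a n h'.le).app V
      ((trHom c M a n h.le).app V b)).1 i
    rw [trHom_app, trHom_app, smul_smul, ← pow_add]
    congr 2
    have := h.le
    have := h'.le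
    omega

/-- The system of twists, as abelian sheaves. -/
abbrev sysAb : ℕ ⥤ AbSheaf X := sys c M a n ⋙ QCoh.toAbFun X

theorem mraiseHom_eq_trHom (N : ℕ) : c.mraiseHom M a n N = trHom c M a n (Nat.zero_le N) := rfl

/-- Sections of a sheaf of modules as degree zero classes. -/
abbrev H0V (M : X.Modules) (V : X.Opens) : HV (Coh.toAb M) V 0 ≃+ Γ(M, V) := H0Equiv (Coh.toAb M) V

theorem H0V_push {N N' : ℕ} (h : N ≤ N') {V : X.Opens} (x : HV ((sysAb c M a n).obj N) V 0) :
    H0V (c.modTwist M (n + k * N')) V (push (sysAb c M a n) h x) =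
      (trHom c M a n h).app V (H0V (c.modTwist M (n + k * N)) V x) := by
  rw [push_apply]
  exact H0Equiv_comp_mk₀ _ V x

theorem H0V_res (N : ℕ) {V W : X.Opens} (h : W ≤ V) (x : HV ((sysAb c M a n).obj N) V 0) :
    H0V (c.modTwist M (n + k * N)) W (res ((sysAb c M a n).obj N) 0 h x) =
      (show Γ(c.modTwist M (n + k * N), W) from
        c.msectRes h (H0V (c.modTwist M (n + k * N)) V x)) :=
  H0Equiv_res _ h x

theorem locIso_affine [M.IsQuasicoherent] {V : X.Opens} (hV : IsAffineOpen V)
    (hVD : ∃ l, V ≤ c.D l) : LocIso (sysAb c M a n) (c.locus a) V := by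
  obtain ⟨l, hl⟩ := hVD
  have hVU : IsAffineOpen (V ⊓ c.locus a) := by
    rw [inf_comm, c.locus_inf_eq_basicOpen a hl]
    exact hV.basicOpen _
  have hqc : ∀ N, (c.modTwist M (n + k * N)).IsQuasicoherent := fun N => c.isQuasicoherent_modTwist M _
  refine ⟨fun i N x hx => ?_, fun i N y => ?_⟩
  · obtain _ | j := i
    · let b : c.msect M (n + k * N) V := H0V (c.modTwist M (n + k * N)) V x
      have hb : c.msectRes (inf_le_left : V ⊓ c.locus a ≤ V) b = c.msectRes inf_le_left 0 := by
        rw [map_zero]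
        refine (H0V_res c M a n N inf_le_left x).symm.trans ?_
        exact (congrArg _ hx).trans (map_zero _)
      obtain ⟨N₀, hN₀⟩ := c.exists_mraise_eq a hV.isCompact hl b 0 hb
      refine ⟨N + N₀, Nat.le_add_right _ _,
        (H0V (c.modTwist M (n + k * (N + N₀))) V).injective ?_⟩
      refine (H0V_push c M a n _ x).trans (Eq.trans ?_ (map_zero (H0V (c.modTwist M (n + k * (N + N₀))) V)).symm)
      refine c.msect_ext fun i => ?_
      rw [trHom_app, show N + N₀ - N = N₀ by omega]
      exact (congrArg (fun t : c.msect M _ V => t.1 i) (hN₀ N₀ le_rfl)).trans (smul_zero _)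
    · have := hqc N
      have := (vanishFrom_affine (c.modTwist M (n + k * N)) hV) (j + 1) (by omega)
      exact ⟨N, le_rfl, (congrArg _ (@Subsingleton.elim _ this x 0)).trans (map_zero _)⟩
  · obtain _ | j := i
    · let β : c.msect M (n + k * N) (V ⊓ c.locus a) := H0V (c.modTwist M (n + k * N)) _ y
      let α : Γ(X, V) := res (le_inf le_top hl) (a.1 l)
      have hα : c.locus a ⊓ V = X.basicOpen α := c.locus_inf_eq_basicOpen a hl
      have h1 : X.basicOpen α ≤ (V ⊓ c.locus a) ⊓ c.D l :=
        le_inf (hα ▸ (inf_comm _ _).le) ((X.basicOpen_le α).trans hl)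
      have h2 : V ⊓ c.locus a ≤ X.basicOpen α := (inf_comm _ _).le.trans hα.le
      obtain ⟨m, t, ht⟩ := (QCoh.smulLift_and_smulSep_of_isAffineOpen hV M α).1 (mres M h1 (β.1 l))
      change mres M (X.basicOpen_le α) t = res (X.basicOpen_le α) α ^ m • mres M h1 (β.1 l) at ht
      refine ⟨N + m, Nat.le_add_right _ _,
        (H0V (c.modTwist M (n + k * (N + m))) V).symm (c.mbase (n + k * (N + m)) l hl t),
        (H0V (c.modTwist M (n + k * (N + m))) _).injective ?_⟩
      refine (H0V_res c M a n _ inf_le_left _).trans (Eq.trans ?_ (H0V_push c M a n _ y).symm)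
      erw [AddEquiv.apply_symm_apply]
      refine c.msect_ext_of_le (inf_le_left.trans hl) ?_
      rw [trHom_app, show N + m - N = m by omega]
      have e := congrArg (mres M (inf_le_left.trans h2 : (V ⊓ c.locus a) ⊓ c.D l ≤ X.basicOpen α)) ht
      simp only [α, Ample.mres_smul', map_pow, InvExt.mres_mres, Ample.res_res] at e
      simp only [Cocycle.msectRes_apply, Cocycle.mbase_self, InvExt.mres_mres, e, InvExt.mres_self]
      rfl
    · have := hqc N
      have := (vanishFrom_affine (c.modTwist M (n + k * N)) hVU) (j + 1) (by omega)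
      exact ⟨N, le_rfl, 0, (map_zero _).trans ((congrArg _ (@Subsingleton.elim _ this y 0)).trans (map_zero _)).symm⟩

theorem isAffineOpen_inf [X.IsSeparated] {V W : X.Opens} (hV : IsAffineOpen V) (hW : IsAffineOpen W) :
    IsAffineOpen (V ⊓ W) :=
  hV.inf hW

theorem locIso_top [X.IsSeparated] [CompactSpace X] [M.IsQuasicoherent] :
    LocIso (sysAb c M a n) (c.locus a) ⊤ := by
  choose l V hpV hVD hV using c.exists_affine_le_D
  obtain ⟨s, hs⟩ := isCompact_univ.elim_finite_subcover (fun p => (V p : Set X)) (fun p => (V p).2)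
    fun p _ => Set.mem_iUnion.2 ⟨p, hpV p⟩
  let e := s.equivFin.symm
  have htop : (⨆ i, V (e i).1) = (⊤ : X.Opens) := top_le_iff.1 fun x _ => by
    obtain ⟨p, hp, hx⟩ := Set.mem_iUnion₂.1 (hs (Set.mem_univ x))
    exact Opens.mem_iSup.2 ⟨e.symm ⟨p, hp⟩, by rw [e.apply_symm_apply]; exact hx⟩
  have := LocIso.iSup (fun W : X.Opens => IsAffineOpen W ∧ ∃ l, W ≤ c.D l)
    (fun W hW => locIso_affine c M a n hW.1 hW.2)
    (fun W₁ W₂ h₁ h₂ => ⟨isAffineOpen_inf h₁.1 h₂.1, h₁.2.imp fun _ h => inf_le_left.trans h⟩)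
    _ (fun i => V (e i).1) (fun i => ⟨hV _, _, hVD _⟩)
  rwa [htop] at this

variable {A : Type u} [CommRing A] [X.Over (Spec (CommRingCat.of A))]

theorem HEquivTop_hhMap {M N : X.Modules} (φ : M ⟶ N) (i : ℕ) (x : Coh.HH X M i) :
    HEquivTop (Coh.toAb N) i (hhMap A φ i x) =
      (HEquivTop (Coh.toAb M) i x).comp (Ext.mk₀ ((QCoh.toAbFun X).map φ)) (add_zero i) :=
  (Ext.comp_assoc_of_third_deg_zero (Ext.mk₀ (freeTopIso (T := X)).hom)
    (show Ext.{u} _ ((QCoh.toAbFun X).obj M) i from x) (Ext.mk₀ ((QCoh.toAbFun X).map φ))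
    (zero_add i)).symm

variable (A) in
/-- A class of positive degree is killed by all high powers of a section with affine locus. -/
theorem exists_kill [X.IsSeparated] [CompactSpace X] [M.IsQuasicoherent] (hU : IsAffineOpen (c.locus a))
    {i : ℕ} (hi : 1 ≤ i) (ξ : Coh.HH X (c.modTwist M n) i) :
    ∃ N₀, ∀ N, N₀ ≤ N → hhMap A (c.mraiseHom M a n N) i ξ = 0 := by
  let x : HV ((sysAb c M a n).obj 0) ⊤ i := HEquivTop (Coh.toAb (c.modTwist M n)) i ξ
  have hx : res ((sysAb c M a n).obj 0) i (inf_le_left : ⊤ ⊓ c.locus a ≤ ⊤) x = 0 := by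
    have hq : (c.modTwist M (n + k * 0)).IsQuasicoherent := c.isQuasicoherent_modTwist M _
    exact @Subsingleton.elim _ ((vanishFrom_affine (c.modTwist M (n + k * 0))
      (U := ⊤ ⊓ c.locus a) (by rwa [top_inf_eq])) i hi) _ _
  obtain ⟨b, hb, hxb⟩ := (locIso_top c M a n).inj i 0 x hx
  refine ⟨b, fun N hN => (HEquivTop (Coh.toAb (c.modTwist M (n + k * N))) i).injective ?_⟩
  rw [HEquivTop_hhMap, map_zero, mraiseHom_eq_trHom]
  change push (sysAb c M a n) (Nat.zero_le N) x = 0
  rw [← push_push (sysAb c M a n) hb hN, hxb, map_zero]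

end GrothLib.SerreVanish
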