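import Groth.Agent.Lib.Cohom.Basic

/-!
# Restriction to an open as an isomorphism on the colimit of a system of sheaves

`LocIso G U V` says that `colim H^i(V, G a) → colim H^i(V ⊓ U, G a)` is bijective. It is stable
under unions, by Mayer-Vietoris.
-/

universe u

open CategoryTheory CategoryTheory.Limits Opposite TopologicalSpace Abelian

noncomputable section

namespace GrothLib.SerreVanish

open GrothLib.Cohom

variable {T : Type u} [TopologicalSpace T]

/-- The cohomology on an open. -/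
abbrev HV (F : AbSheaf T) (V : Opens T) (i : ℕ) := Ext.{u} (freeFun.obj V) F i

section Gen

variable {C : Type*} [Category.{u} C] [Abelian C] [HasExt.{u} C] {Z A B U : C}
  {jA : Z ⟶ A} {jB : Z ⟶ B} {iA : A ⟶ U} {iB : B ⟶ U}
  {w : biprod.lift jA (-jB) ≫ biprod.desc iA iB = 0}
  (hS : (ShortComplex.mk (biprod.lift jA (-jB)) (biprod.desc iA iB) w).ShortExact) (F : C) (i : ℕ)

theorem mk₀_lift_comp (a : Ext.{u} A F i) (b : Ext.{u} B F i) :
    (Ext.mk₀ (biprod.lift jA (-jB))).comp (Ext.biprodAddEquiv.symm (a, b)) (zero_add i) =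
      (Ext.mk₀ jA).comp a (zero_add i) - (Ext.mk₀ jB).comp b (zero_add i) := by
  simp [Ext.biprodAddEquiv_symm_apply, sub_eq_add_neg, Ext.mk₀_neg]

include hS in
theorem extClass_comp_sub (a : Ext.{u} A F i) (b : Ext.{u} B F i) :
    hS.extClass.comp ((Ext.mk₀ jA).comp a (zero_add i) - (Ext.mk₀ jB).comp b (zero_add i))
      (add_comm 1 i) = 0 := by
  rw [← mk₀_lift_comp, ← Ext.comp_assoc _ _ _ (add_zero 1) (zero_add i) (by omega)]
  erw [hS.extClass_comp]
  rw [Ext.zero_comp]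

include hS in
theorem exists_extClass_comp (x : Ext.{u} U F (i + 1))
    (hA : (Ext.mk₀ iA).comp x (zero_add _) = 0) (hB : (Ext.mk₀ iB).comp x (zero_add _) = 0) :
    ∃ y, hS.extClass.comp y (add_comm 1 i) = x :=
  Ext.contravariant_sequence_exact₃ hS F x
    (Ext.biprodAddEquiv.injective (by ext <;> simp [hA, hB])) (add_comm 1 i)

include hS in
theorem exists_sub_eq (y : Ext.{u} Z F i) (h : hS.extClass.comp y (add_comm 1 i) = 0) :
    ∃ (a : Ext.{u} A F i) (b : Ext.{u} B F i),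
      (Ext.mk₀ jA).comp a (zero_add i) - (Ext.mk₀ jB).comp b (zero_add i) = y := by
  obtain ⟨z, hz⟩ := Ext.contravariant_sequence_exact₁ hS F y (add_comm 1 i) h
  refine ⟨(Ext.biprodAddEquiv z).1, (Ext.biprodAddEquiv z).2, ?_⟩
  rw [← mk₀_lift_comp, Prod.mk.eta, AddEquiv.symm_apply_apply]
  exact hz

include hS in
theorem exists_glue_gen (a : Ext.{u} A F i) (b : Ext.{u} B F i)
    (h : (Ext.mk₀ jA).comp a (zero_add i) = (Ext.mk₀ jB).comp b (zero_add i)) :
    ∃ x : Ext.{u} U F i, (Ext.mk₀ iA).comp x (zero_add i) = a ∧ (Ext.mk₀ iB).comp x (zero_add i) = b := by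
  obtain ⟨x, hx⟩ := Ext.contravariant_sequence_exact₂ hS F (Ext.biprodAddEquiv.symm (a, b))
    (by rw [mk₀_lift_comp, h, sub_self])
  have e := congrArg Ext.biprodAddEquiv hx
  rw [AddEquiv.apply_symm_apply] at e
  exact ⟨x, by simpa using congrArg Prod.fst e, by simpa using congrArg Prod.snd e⟩

include hS in
theorem eq_zero_of_comp_zero (x : Ext.{u} U F 0)
    (hA : (Ext.mk₀ iA).comp x (zero_add 0) = 0) (hB : (Ext.mk₀ iB).comp x (zero_add 0) = 0) : x = 0 := by
  obtain ⟨φ, rfl⟩ := (Ext.mk₀_bijective _ _).surjective x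
  rw [Ext.mk₀_comp_mk₀, ← Ext.mk₀_zero] at hA hB
  have hA' := (Ext.mk₀_bijective _ _).injective hA
  have hB' := (Ext.mk₀_bijective _ _).injective hB
  have : Epi (biprod.desc iA iB) := hS.epi_g
  suffices φ = 0 by rw [this, Ext.mk₀_zero]
  refine (cancel_epi (biprod.desc iA iB)).1 (biprod.hom_ext' _ _ ?_ ?_) <;> simp [hA', hB']

include hS in
theorem comp_extClass_comp_naturality {Z' A' B' U' : C} {jA' : Z' ⟶ A'} {jB' : Z' ⟶ B'} {iA' : A' ⟶ U'}
    {iB' : B' ⟶ U'} {w' : biprod.lift jA' (-jB') ≫ biprod.desc iA' iB' = 0}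
    (hS' : (ShortComplex.mk (biprod.lift jA' (-jB')) (biprod.desc iA' iB') w').ShortExact)
    (φ : ShortComplex.mk (biprod.lift jA' (-jB')) (biprod.desc iA' iB') w' ⟶
      ShortComplex.mk (biprod.lift jA (-jB)) (biprod.desc iA iB) w) (y : Ext.{u} Z F i) :
    (Ext.mk₀ φ.τ₃).comp (hS.extClass.comp y (add_comm 1 i)) (zero_add (i + 1)) =
      hS'.extClass.comp ((Ext.mk₀ φ.τ₁).comp y (zero_add i)) (add_comm 1 i) := by
  rw [← Ext.comp_assoc _ _ _ (zero_add 1) (add_comm 1 i) (by omega),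
    ← ShortComplex.ShortExact.extClass_naturality hS' hS φ,
    Ext.comp_assoc _ _ _ (add_zero 1) (zero_add i) (by omega)]

end Gen

section MV

variable (V W : Opens T)

/-- The Mayer-Vietoris sequence of two opens. -/
abbrev mvSeq : ShortComplex (AbSheaf T) := (Opens.mayerVietorisSquare V W).shortComplex

theorem mvSeq_shortExact : (mvSeq V W).ShortExact :=
  (Opens.mayerVietorisSquare V W).shortComplex_shortExact

theorem mvSeq_f : (mvSeq V W).f = biprod.lift (freeFun.map (homOfLE (inf_le_left : V ⊓ W ≤ V)))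
    (-freeFun.map (homOfLE (inf_le_right : V ⊓ W ≤ W))) := rfl

theorem mvSeq_g : (mvSeq V W).g = biprod.desc (freeFun.map (homOfLE (le_sup_left : V ≤ V ⊔ W)))
    (freeFun.map (homOfLE (le_sup_right : W ≤ V ⊔ W))) := rfl

/-- The Mayer-Vietoris connecting map. -/
def mvDelta (F : AbSheaf T) (i : ℕ) : HV F (V ⊓ W) i →+ HV F (V ⊔ W) (i + 1) :=
  (mvSeq_shortExact V W).extClass.precomp F (add_comm 1 i)

theorem mvDelta_apply (F : AbSheaf T) (i : ℕ) (y : HV F (V ⊓ W) i) :
    mvDelta V W F i y = (mvSeq_shortExact V W).extClass.comp y (add_comm 1 i) := rfl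

theorem mvDelta_sub (F : AbSheaf T) (i : ℕ) (a : HV F V i) (b : HV F W i) :
    mvDelta V W F i (res F i inf_le_left a - res F i inf_le_right b) = 0 :=
  extClass_comp_sub (mvSeq_shortExact V W) F i a b

theorem exists_sub_of_mvDelta_eq_zero (F : AbSheaf T) (i : ℕ) (y : HV F (V ⊓ W) i)
    (h : mvDelta V W F i y = 0) :
    ∃ (a : HV F V i) (b : HV F W i), res F i inf_le_left a - res F i inf_le_right b = y :=
  exists_sub_eq (mvSeq_shortExact V W) F i y h

theorem exists_mvDelta_eq (F : AbSheaf T) (i : ℕ) (x : HV F (V ⊔ W) (i + 1))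
    (hV : res F (i + 1) le_sup_left x = 0) (hW : res F (i + 1) le_sup_right x = 0) :
    ∃ y, mvDelta V W F i y = x :=
  exists_extClass_comp (mvSeq_shortExact V W) F i x hV hW

theorem exists_glue (F : AbSheaf T) (i : ℕ) (a : HV F V i) (b : HV F W i)
    (h : res F i (inf_le_left : V ⊓ W ≤ V) a = res F i inf_le_right b) :
    ∃ x : HV F (V ⊔ W) i, res F i le_sup_left x = a ∧ res F i le_sup_right x = b :=
  exists_glue_gen (mvSeq_shortExact V W) F i a b h

theorem eq_zero_of_res_zero (F : AbSheaf T) (x : HV F (V ⊔ W) 0)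
    (hV : res F 0 le_sup_left x = 0) (hW : res F 0 le_sup_right x = 0) : x = 0 :=
  eq_zero_of_comp_zero (mvSeq_shortExact V W) F x hV hW

variable {V W}

/-- The map of Mayer-Vietoris sequences given by inclusions. -/
def mvMap {V' W' : Opens T} (hV : V' ≤ V) (hW : W' ≤ W) : mvSeq V' W' ⟶ mvSeq V W where
  τ₁ := freeFun.map (homOfLE (inf_le_inf hV hW))
  τ₂ := biprod.map (freeFun.map (homOfLE hV)) (freeFun.map (homOfLE hW))
  τ₃ := freeFun.map (homOfLE (sup_le_sup hV hW))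
  comm₁₂ := by
    rw [mvSeq_f, mvSeq_f]
    refine biprod.hom_ext _ _ ?_ ?_
    · erw [Category.assoc, Category.assoc, biprod.lift_fst, biprod.map_fst, biprod.lift_fst_assoc,
        ← Functor.map_comp, ← Functor.map_comp]
      rfl
    · erw [Category.assoc, Category.assoc, biprod.lift_snd, biprod.map_snd, biprod.lift_snd_assoc,
        Preadditive.comp_neg, Preadditive.neg_comp, ← Functor.map_comp, ← Functor.map_comp]
      rfl
  comm₂₃ := by
    rw [mvSeq_g, mvSeq_g]
    refine biprod.hom_ext' _ _ ?_ ?_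
    · erw [biprod.inl_map_assoc, biprod.inl_desc, biprod.inl_desc_assoc, ← Functor.map_comp,
        ← Functor.map_comp]
      rfl
    · erw [biprod.inr_map_assoc, biprod.inr_desc, biprod.inr_desc_assoc, ← Functor.map_comp,
        ← Functor.map_comp]
      rfl

theorem res_mvDelta (F : AbSheaf T) {V' W' : Opens T} (hV : V' ≤ V) (hW : W' ≤ W) (i : ℕ)
    (y : HV F (V ⊓ W) i) : res F (i + 1) (sup_le_sup hV hW) (mvDelta V W F i y) =
      mvDelta V' W' F i (res F i (inf_le_inf hV hW) y) :=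
  comp_extClass_comp_naturality (mvSeq_shortExact V W) F i (mvSeq_shortExact V' W') (mvMap hV hW) y

end MV

section Push

variable (G : ℕ ⥤ AbSheaf T)

/-- The transition maps on cohomology. -/
def push {V : Opens T} {i a b : ℕ} (h : a ≤ b) : HV (G.obj a) V i →+ HV (G.obj b) V i :=
  (Ext.mk₀ (G.map (homOfLE h))).postcomp (freeFun.obj V) (add_zero i)

theorem push_apply {V : Opens T} {i a b : ℕ} (h : a ≤ b) (x : HV (G.obj a) V i) :
    push G h x = x.comp (Ext.mk₀ (G.map (homOfLE h))) (add_zero i) := rfl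

theorem push_push {V : Opens T} {i a b d : ℕ} (h : a ≤ b) (h' : b ≤ d) (x : HV (G.obj a) V i) :
    push G h' (push G h x) = push G (h.trans h') x := by
  rw [push_apply, push_apply, push_apply, Ext.comp_assoc_of_second_deg_zero, Ext.mk₀_comp_mk₀,
    ← Functor.map_comp]
  rfl

theorem push_refl {V : Opens T} {i a : ℕ} (h : a ≤ a) (x : HV (G.obj a) V i) : push G h x = x := by
  rw [push_apply, show homOfLE h = 𝟙 a from rfl, G.map_id, Ext.comp_mk₀_id]

theorem res_push {V W : Opens T} {i a b : ℕ} (h : a ≤ b) (hW : W ≤ V) (x : HV (G.obj a) V i) :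
    res (G.obj b) i hW (push G h x) = push G h (res (G.obj a) i hW x) :=
  res_comp _ (add_zero i) hW x

theorem mvDelta_push {V W : Opens T} {i a b : ℕ} (h : a ≤ b) (y : HV (G.obj a) (V ⊓ W) i) :
    push G h (mvDelta V W (G.obj a) i y) = mvDelta V W (G.obj b) i (push G h y) :=
  Ext.comp_assoc _ _ _ (add_comm 1 i) (add_zero i) (by omega)

/-- Restriction to `U` is bijective on the colimit of the cohomologies. -/
structure LocIso (U V : Opens T) : Prop where
  inj : ∀ (i a : ℕ) (x : HV (G.obj a) V i), res (G.obj a) i (inf_le_left : V ⊓ U ≤ V) x = 0 →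
    ∃ (b : ℕ) (h : a ≤ b), push G h x = 0
  surj : ∀ (i a : ℕ) (y : HV (G.obj a) (V ⊓ U) i), ∃ (b : ℕ) (h : a ≤ b) (x : HV (G.obj b) V i),
    res (G.obj b) i (inf_le_left : V ⊓ U ≤ V) x = push G h y

theorem locIso_bot (U : Opens T) : LocIso G U ⊥ := by
  have : ∀ F (i : ℕ), Subsingleton (HV F (⊥ : Opens T) i) := subsingleton_ext_freeFun_bot
  refine ⟨fun i a x _ => ⟨a, le_rfl, Subsingleton.elim _ _⟩, fun i a y => ⟨a, le_rfl, 0, ?_⟩⟩
  have : Subsingleton (HV (G.obj a) (⊥ ⊓ U) i) := by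
    rw [bot_inf_eq]; infer_instance
  exact Subsingleton.elim _ _

variable {G}

theorem LocIso.sup {U V W : Opens T} (hV : LocIso G U V) (hW : LocIso G U W)
    (hI : LocIso G U (V ⊓ W)) : LocIso G U (V ⊔ W) := by
  have eU : (V ⊔ W) ⊓ U = (V ⊓ U) ⊔ (W ⊓ U) := inf_sup_right V W U
  have hle : (V ⊓ U) ⊓ (W ⊓ U) ≤ (V ⊓ W) ⊓ U := by
    rw [inf_inf_inf_comm, inf_idem]
  have hge : (V ⊓ W) ⊓ U ≤ (V ⊓ U) ⊓ (W ⊓ U) := by
    rw [inf_inf_inf_comm V U W U, inf_idem]
  have hVU : V ⊓ U ≤ (V ⊔ W) ⊓ U := inf_le_inf_right U le_sup_left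
  have hWU : W ⊓ U ≤ (V ⊔ W) ⊓ U := inf_le_inf_right U le_sup_right
  refine ⟨fun i a x hx => ?_, fun i a y => ?_⟩
  · have resV : res (G.obj a) i (inf_le_left : V ⊓ U ≤ V) (res (G.obj a) i le_sup_left x) = 0 := by
      rw [res_res, ← res_res (G.obj a) i (inf_le_left : (V ⊔ W) ⊓ U ≤ V ⊔ W) hVU, hx, map_zero]
    have resW : res (G.obj a) i (inf_le_left : W ⊓ U ≤ W) (res (G.obj a) i le_sup_right x) = 0 := by
      rw [res_res, ← res_res (G.obj a) i (inf_le_left : (V ⊔ W) ⊓ U ≤ V ⊔ W) hWU, hx, map_zero]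
    obtain ⟨b₁, h₁, e₁⟩ := hV.inj i a _ resV
    obtain ⟨b₂, h₂, e₂⟩ := hW.inj i a _ resW
    let b := max b₁ b₂
    have hab : a ≤ b := h₁.trans (le_max_left _ _)
    have zV : res (G.obj b) i le_sup_left (push G hab x) = 0 := by
      rw [res_push, ← push_push G h₁ (le_max_left b₁ b₂), e₁, map_zero]
    have zW : res (G.obj b) i le_sup_right (push G hab x) = 0 := by
      rw [res_push, ← push_push G h₂ (le_max_right b₁ b₂), e₂, map_zero]
    obtain _ | j := i
    · exact ⟨b, hab, eq_zero_of_res_zero V W _ _ zV zW⟩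
    obtain ⟨η, hη⟩ := exists_mvDelta_eq V W _ j _ zV zW
    let η' := res (G.obj b) j (inf_le_inf (inf_le_left : V ⊓ U ≤ V) (inf_le_left : W ⊓ U ≤ W)) η
    have hη' : mvDelta (V ⊓ U) (W ⊓ U) (G.obj b) j η' = 0 := by
      have h' : (V ⊓ U) ⊔ (W ⊓ U) ≤ (V ⊔ W) ⊓ U := eU.ge
      rw [← res_mvDelta (G.obj b) (inf_le_left : V ⊓ U ≤ V) (inf_le_left : W ⊓ U ≤ W), hη, ← res_res (G.obj b) (j + 1) (inf_le_left : (V ⊔ W) ⊓ U ≤ V ⊔ W) h',
        res_push, hx, map_zero, map_zero]
    have := exists_sub_of_mvDelta_eq_zero _ _ _ j η' hη'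
    obtain ⟨β₁, β₂, hβ⟩ := this
    obtain ⟨c₁, k₁, ξ₁, f₁⟩ := hV.surj j b β₁
    obtain ⟨c₂, k₂, ξ₂, f₂⟩ := hW.surj j b β₂
    let d := max c₁ c₂
    have hbd : b ≤ d := k₁.trans (le_max_left _ _)
    let ζ : HV (G.obj d) (V ⊓ W) j := push G hbd η -
      (res (G.obj d) j inf_le_left (push G (le_max_left c₁ c₂) ξ₁) -
        res (G.obj d) j inf_le_right (push G (le_max_right c₁ c₂) ξ₂))
    have hζ : res (G.obj d) j (inf_le_left : V ⊓ W ⊓ U ≤ V ⊓ W) ζ = 0 := by
      have g₁ : res (G.obj d) j (inf_le_left : V ⊓ W ⊓ U ≤ V ⊓ W)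
          (res (G.obj d) j inf_le_left (push G (le_max_left c₁ c₂) ξ₁)) =
          push G hbd (res (G.obj b) j (hge.trans inf_le_left) β₁) := by
        rw [res_res, ← res_res (G.obj d) j (inf_le_left : V ⊓ U ≤ V) (hge.trans inf_le_left), res_push, f₁,
          push_push, res_push]
      have g₂ : res (G.obj d) j (inf_le_left : V ⊓ W ⊓ U ≤ V ⊓ W)
          (res (G.obj d) j inf_le_right (push G (le_max_right c₁ c₂) ξ₂)) =
          push G hbd (res (G.obj b) j (hge.trans inf_le_right) β₂) := by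
        rw [res_res, ← res_res (G.obj d) j (inf_le_left : W ⊓ U ≤ W) (hge.trans inf_le_right), res_push, f₂,
          push_push, res_push]
      have g₀ : res (G.obj b) j (inf_le_left : V ⊓ W ⊓ U ≤ V ⊓ W) η = res (G.obj b) j hge η' := by
        rw [res_res]
      simp only [ζ]
      rw [map_sub, map_sub, g₁, g₂, res_push, g₀, ← map_sub, ← map_sub]
      rw [← hβ]
      simp only [map_sub, res_res, sub_self, map_zero]
    obtain ⟨e, he, hζ0⟩ := hI.inj j d ζ hζ
    refine ⟨e, hab.trans (hbd.trans he), ?_⟩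
    rw [← push_push G hab (hbd.trans he), ← hη, ← push_push G hbd he, mvDelta_push,
      show push G hbd η = ζ + (res (G.obj d) j inf_le_left (push G (le_max_left c₁ c₂) ξ₁) -
        res (G.obj d) j inf_le_right (push G (le_max_right c₁ c₂) ξ₂)) from (sub_add_cancel _ _).symm,
      map_add, mvDelta_sub, add_zero, mvDelta_push, hζ0, map_zero]
  · obtain ⟨c₁, k₁, ξ₁, f₁⟩ := hV.surj i a (res (G.obj a) i hVU y)
    obtain ⟨c₂, k₂, ξ₂, f₂⟩ := hW.surj i a (res (G.obj a) i hWU y)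
    let d := max c₁ c₂
    have had : a ≤ d := k₁.trans (le_max_left _ _)
    let x₁ := push G (le_max_left c₁ c₂) ξ₁
    let x₂ := push G (le_max_right c₁ c₂) ξ₂
    have hx₁ : res (G.obj d) i (inf_le_left : V ⊓ U ≤ V) x₁ = push G had (res (G.obj a) i hVU y) := by
      rw [res_push, f₁, push_push]
    have hx₂ : res (G.obj d) i (inf_le_left : W ⊓ U ≤ W) x₂ = push G had (res (G.obj a) i hWU y) := by
      rw [res_push, f₂, push_push]
    have hdiff : res (G.obj d) i (inf_le_left : V ⊓ W ⊓ U ≤ V ⊓ W)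
        (res (G.obj d) i inf_le_left x₁ - res (G.obj d) i inf_le_right x₂) = 0 := by
      rw [map_sub, res_res, res_res, ← res_res (G.obj d) i (inf_le_left : V ⊓ U ≤ V) (hge.trans inf_le_left),
        ← res_res (G.obj d) i (inf_le_left : W ⊓ U ≤ W) (hge.trans inf_le_right), hx₁, hx₂, res_push,
        res_push, res_res, res_res, sub_self]
    obtain ⟨e, he, hd0⟩ := hI.inj i d _ hdiff
    have hae : a ≤ e := had.trans he
    obtain ⟨x, hxV, hxW⟩ := exists_glue V W (G.obj e) i (push G he x₁) (push G he x₂) (by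
      rw [res_push G he _ x₁, res_push G he _ x₂, ← sub_eq_zero, ← map_sub]; exact hd0)
    have rV : res (G.obj e) i hVU (res (G.obj e) i (inf_le_left : (V ⊔ W) ⊓ U ≤ V ⊔ W) x - push G hae y) = 0 := by
      rw [map_sub, res_res, ← res_res (G.obj e) i le_sup_left (inf_le_left : V ⊓ U ≤ V), hxV, res_push, hx₁,
        push_push, res_push, sub_self]
    have rW : res (G.obj e) i hWU (res (G.obj e) i (inf_le_left : (V ⊔ W) ⊓ U ≤ V ⊔ W) x - push G hae y) = 0 := by
      rw [map_sub, res_res, ← res_res (G.obj e) i le_sup_right (inf_le_left : W ⊓ U ≤ W), hxW, res_push, hx₂,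
        push_push, res_push, sub_self]
    set γ := res (G.obj e) i (inf_le_left : (V ⊔ W) ⊓ U ≤ V ⊔ W) x - push G hae y
    have h' : (V ⊓ U) ⊔ (W ⊓ U) ≤ (V ⊔ W) ⊓ U := eU.ge
    have h'' : (V ⊔ W) ⊓ U ≤ (V ⊓ U) ⊔ (W ⊓ U) := eU.le
    have γV : res (G.obj e) i le_sup_left (res (G.obj e) i h' γ) = 0 := by rw [res_res]; exact rV
    have γW : res (G.obj e) i le_sup_right (res (G.obj e) i h' γ) = 0 := by rw [res_res]; exact rW
    obtain _ | j := i
    · refine ⟨e, hae, x, sub_eq_zero.1 ?_⟩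
      change γ = 0
      rw [← res_self (G.obj e) 0 le_rfl γ, ← res_res (G.obj e) 0 h' h'', eq_zero_of_res_zero _ _ _ _ γV γW,
        map_zero]
    obtain ⟨η, hη⟩ := exists_mvDelta_eq _ _ _ j _ γV γW
    obtain ⟨f, hf, ζ, hζ⟩ := hI.surj j e (res (G.obj e) j hge η)
    refine ⟨f, hae.trans hf, push G hf x - mvDelta V W (G.obj f) j ζ, ?_⟩
    have key : res (G.obj f) (j + 1) (inf_le_left : (V ⊔ W) ⊓ U ≤ V ⊔ W) (mvDelta V W (G.obj f) j ζ) =
        push G hf γ := by
      rw [← res_res (G.obj f) (j + 1) (sup_le_sup (inf_le_left : V ⊓ U ≤ V) (inf_le_left : W ⊓ U ≤ W)) h'',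
        res_mvDelta (G.obj f) (inf_le_left : V ⊓ U ≤ V) (inf_le_left : W ⊓ U ≤ W), ← res_res (G.obj f) j (inf_le_left : V ⊓ W ⊓ U ≤ V ⊓ W) hle, hζ, ← push_push G le_rfl hf,
        push_refl, res_push, res_res, res_self, ← mvDelta_push, hη, res_push, res_res, res_self]
    rw [map_sub, key, res_push, ← map_sub, ← push_push G hae hf]
    congr 1
    exact sub_sub_cancel _ _

/-- Finite unions from a family stable under intersections. -/
theorem LocIso.iSup {U : Opens T} (𝒮 : Opens T → Prop) (hloc : ∀ V, 𝒮 V → LocIso G U V)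
    (hinf : ∀ V W, 𝒮 V → 𝒮 W → 𝒮 (V ⊓ W)) (t : ℕ) (V : Fin t → Opens T) (hV : ∀ i, 𝒮 (V i)) :
    LocIso G U (⨆ i, V i) := by
  induction t with
  | zero => rw [iSup_of_empty]; exact locIso_bot G U
  | succ t ih =>
    have hsplit : (⨆ i, V i) = (⨆ i : Fin t, V i.succ) ⊔ V 0 := by
      refine le_antisymm (iSup_le fun i ↦ ?_) (sup_le (iSup_le fun i ↦ le_iSup V _) (le_iSup V 0))
      cases i using Fin.cases with
      | zero => exact le_sup_right
      | succ i => exact (le_iSup (fun i : Fin t ↦ V i.succ) i).trans le_sup_left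
    have h := ih (fun i ↦ V i.succ ⊓ V 0) fun i ↦ hinf _ _ (hV _) (hV _)
    rw [← iSup_inf_eq] at h
    rw [hsplit]
    exact (ih _ fun i ↦ hV i.succ).sup (hloc _ (hV 0)) h

end Push

end GrothLib.SerreVanish
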